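import Mathlib
import Cfsg.Agent.S0256
import Cfsg.Agent.Lib.AltAut.Main

/-!
`A₇` inside `GL₄(2) ≅ A₈` and its action on pairs of non-zero vectors.
-/

set_option autoImplicit false

namespace Cfsg.Agent.Lib.ASevenGL

open Matrix Equiv

/-- first generator of a letter stabilizer -/
def matA : Matrix (Fin 4) (Fin 4) (ZMod 2) := !![0, 0, 1, 1; 1, 0, 1, 1; 0, 1, 0, 1; 1, 0, 1, 0]

/-- second generator of a letter stabilizer -/
def matB : Matrix (Fin 4) (Fin 4) (ZMod 2) := !![1, 1, 0, 1; 1, 0, 1, 1; 0, 1, 1, 1; 0, 0, 1, 0]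

/-- the permutation of the first generator -/
def permA : Perm (Fin 8) := ⟨![6, 4, 0, 2, 5, 3, 1, 7], ![2, 6, 3, 5, 1, 4, 0, 7], by decide, by decide⟩

/-- the permutation of the second generator -/
def permB : Perm (Fin 8) := ⟨![4, 3, 5, 1, 2, 0, 6, 7], ![5, 3, 4, 1, 0, 2, 6, 7], by decide, by decide⟩

/-- the vector with binary code `x` -/
def vec (x : ℕ) : Fin 4 → ZMod 2 := ![(x % 2 : ℕ), (x / 2 % 2 : ℕ), (x / 4 % 2 : ℕ), (x / 8 % 2 : ℕ)]

/-- the code of a vector -/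
def code (v : Fin 4 → ZMod 2) : ℕ := (v 0).val + 2 * (v 1).val + 4 * (v 2).val + 8 * (v 3).val

/-- action of the first generator on codes -/
def actA : List ℕ := [0, 10, 4, 14, 11, 1, 15, 5, 7, 13, 3, 9, 12, 6, 8, 2]

/-- action of the second generator on codes -/
def actB : List ℕ := [0, 3, 5, 6, 14, 13, 11, 8, 7, 4, 2, 1, 9, 10, 12, 15]

/-- spanning tree of the action on pairs: pair, parent and generator -/
def pairTree : List (ℕ × ℕ × ℕ × ℕ) := [(1, 2, 0, 0), (10, 4, 0, 0), (3, 5, 0, 1), (3, 11, 1, 0), (2, 14, 1, 1), (14, 1, 2, 0), (6, 13, 2, 1),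
  (14, 9, 3, 0), (6, 1, 3, 1), (4, 8, 4, 0), (5, 12, 4, 1), (8, 10, 5, 0), (12, 3, 5, 1), (15, 6, 6, 0),
  (11, 10, 6, 1), (8, 13, 7, 0), (12, 4, 7, 1), (15, 10, 8, 0), (11, 3, 8, 1), (11, 7, 9, 0), (14, 7, 9, 1),
  (1, 12, 10, 0), (13, 9, 10, 1), (7, 3, 11, 0), (7, 2, 11, 1), (12, 14, 12, 0), (9, 6, 12, 1), (2, 15, 13, 0),
  (15, 11, 13, 1), (9, 3, 14, 0), (7, 6, 15, 0), (7, 10, 15, 1), (12, 11, 16, 0), (9, 14, 16, 1), (2, 3, 17, 0),
  (15, 2, 17, 1), (1, 6, 18, 1), (9, 5, 19, 0), (1, 8, 19, 1), (8, 5, 20, 0), (12, 8, 20, 1), (10, 12, 21, 0),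
  (3, 9, 21, 1), (5, 14, 23, 0), (8, 6, 23, 1), (5, 4, 24, 0), (9, 12, 25, 1), (13, 15, 26, 0), (4, 11, 26, 1),
  (4, 2, 27, 0), (5, 15, 27, 1), (2, 9, 28, 0), (15, 1, 28, 1), (13, 14, 29, 0), (4, 6, 29, 1), (8, 11, 30, 1),
  (5, 3, 31, 0), (8, 2, 31, 1), (12, 9, 32, 0), (9, 1, 32, 1), (13, 8, 33, 0), (4, 12, 33, 1), (4, 14, 34, 0),
  (5, 6, 34, 1), (2, 4, 35, 0), (15, 5, 35, 1), (10, 15, 36, 0), (13, 1, 37, 0), (4, 13, 37, 1), (10, 7, 38, 0),
  (3, 7, 38, 1), (7, 1, 39, 0), (7, 13, 39, 1), (12, 7, 40, 0), (9, 7, 40, 1), (3, 12, 41, 0), (14, 13, 42, 0),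
  (6, 4, 42, 1), (13, 12, 43, 1), (7, 15, 44, 0), (7, 11, 44, 1), (1, 11, 45, 0), (4, 9, 46, 1), (6, 2, 47, 0),
  (11, 9, 48, 0), (11, 4, 49, 0), (14, 5, 49, 1), (2, 10, 52, 0), (15, 3, 52, 1), (6, 8, 53, 0), (11, 15, 54, 0),
  (14, 11, 54, 1), (7, 9, 55, 0), (1, 14, 56, 0), (13, 6, 56, 1), (7, 4, 57, 0), (7, 5, 57, 1), (12, 13, 58, 0),
  (9, 4, 58, 1), (13, 10, 59, 0), (4, 3, 59, 1), (6, 7, 60, 0), (11, 12, 61, 0), (11, 8, 62, 0), (14, 12, 62, 1),
  (1, 15, 63, 0), (13, 11, 63, 1), (2, 1, 65, 0), (15, 13, 65, 1), (3, 2, 66, 0), (6, 10, 67, 0), (10, 3, 67, 1),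
  (11, 6, 68, 0), (14, 10, 68, 1), (2, 8, 69, 1), (5, 10, 71, 0), (8, 3, 71, 1), (12, 5, 73, 0), (9, 8, 73, 1),
  (13, 5, 74, 0), (6, 9, 75, 1), (12, 10, 76, 1), (11, 14, 77, 1), (6, 12, 78, 0), (10, 9, 78, 1), (5, 2, 79, 0),
  (8, 15, 79, 1), (5, 9, 80, 0), (8, 1, 80, 1), (3, 1, 81, 1), (11, 13, 82, 0), (14, 4, 82, 1), (15, 4, 83, 0),
  (11, 5, 83, 1), (9, 13, 84, 0), (1, 4, 84, 1), (9, 11, 85, 0), (15, 7, 89, 0), (9, 2, 90, 0), (8, 9, 91, 0),
  (12, 1, 91, 1), (5, 13, 92, 0), (8, 4, 92, 1), (10, 8, 93, 0), (6, 15, 94, 0), (10, 11, 94, 1), (5, 11, 95, 0),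
  (8, 14, 95, 1), (5, 1, 96, 0), (12, 6, 97, 0), (9, 10, 97, 1), (6, 3, 99, 0), (10, 2, 99, 1), (14, 6, 100, 1),
  (1, 9, 102, 1), (1, 7, 103, 1), (8, 12, 104, 0), (3, 15, 105, 1), (10, 1, 106, 1), (4, 10, 107, 0), (2, 6, 108, 0),
  (6, 5, 109, 1), (11, 2, 110, 1), (3, 14, 111, 0), (9, 15, 112, 0), (12, 2, 113, 1), (4, 7, 114, 0), (5, 7, 114, 1),
  (1, 3, 115, 0), (13, 2, 115, 1), (7, 14, 116, 0), (13, 7, 118, 0), (10, 13, 119, 1), (15, 12, 123, 0), (3, 13, 124, 0),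
  (1, 13, 127, 0), (13, 4, 127, 1), (1, 10, 130, 1), (2, 11, 132, 0), (15, 14, 132, 1), (4, 1, 136, 1), (2, 5, 137, 0),
  (15, 8, 137, 1), (4, 5, 138, 1), (2, 7, 143, 1), (7, 8, 147, 0), (7, 12, 147, 1), (13, 3, 148, 1), (12, 15, 149, 0),
  (3, 4, 152, 0), (10, 5, 155, 0), (3, 8, 155, 1), (14, 2, 157, 0), (3, 10, 158, 0), (4, 15, 160, 0), (1, 5, 162, 1),
  (14, 8, 163, 0), (10, 14, 168, 0), (3, 6, 168, 1), (5, 8, 170, 0), (2, 12, 173, 0), (15, 9, 173, 1), (10, 6, 175, 0),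
  (6, 11, 176, 0), (14, 3, 180, 1), (11, 1, 183, 0), (8, 7, 185, 1), (6, 14, 187, 0), (2, 13, 190, 1), (14, 15, 194, 1)]

theorem actA_spec : ∀ x : Fin 16, matA *ᵥ vec x = vec (actA.getD x 0) := by decide +kernel

theorem actB_spec : ∀ x : Fin 16, matB *ᵥ vec x = vec (actB.getD x 0) := by decide +kernel

theorem vec_code : ∀ v : Fin 4 → ZMod 2, vec (code v) = v ∧ code v < 16 := by decide +kernel

/-- the check of a single tree entry -/
def treeStep (i : ℕ) : Bool :=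
  let e := pairTree.getD i (0, 0, 0, 0)
  let p := pairTree.getD e.2.2.1 (0, 0, 0, 0)
  let act := if e.2.2.2 == 0 then actA else actB
  Nat.blt e.2.2.1 i && Nat.blt p.1 16 && Nat.blt p.2.1 16 && act.getD p.1 0 == e.1 && act.getD p.2.1 0 == e.2.1

set_option maxRecDepth 20000

theorem tree_ok : (List.range 210).all (fun i => i == 0 || treeStep i) = true := by decide +kernel

theorem tree_all : ((List.range 16).all fun x => (List.range 16).all fun y =>
    x == 0 || y == 0 || x == y || (List.range 210).any fun i =>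
      (pairTree.getD i (0, 0, 0, 0)).1 == x && (pairTree.getD i (0, 0, 0, 0)).2.1 == y) = true := by decide +kernel

theorem matA_det : matA.det = 1 := by decide +kernel

theorem matB_det : matB.det = 1 := by decide +kernel

/-- first generator in `SL` -/
def slA : Matrix.SpecialLinearGroup (Fin 4) (ZMod 2) := ⟨matA, matA_det⟩

/-- second generator in `SL` -/
def slB : Matrix.SpecialLinearGroup (Fin 4) (ZMod 2) := ⟨matB, matB_det⟩

theorem slA_perm : S0256.toPerm slA = permA := by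
  have h : (slA, permA) ∈ S0256.compat := by
    show ∀ k l, S0256.extSq matA *ᵥ S0256.pairVec k l = S0256.pairVec (permA k) (permA l)
    unfold S0256.pairVec
    decide +kernel
  have h2 := Subgroup.mul_mem _ (Subgroup.inv_mem _ (S0256.toPerm_mem slA)) h
  rw [Prod.inv_mk, Prod.mk_mul_mk, inv_mul_cancel] at h2
  exact inv_mul_eq_one.1 (S0256.compat_unique h2)

theorem slB_perm : S0256.toPerm slB = permB := by
  have h : (slB, permB) ∈ S0256.compat := by
    show ∀ k l, S0256.extSq matB *ᵥ S0256.pairVec k l = S0256.pairVec (permB k) (permB l)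
    unfold S0256.pairVec
    decide +kernel
  have h2 := Subgroup.mul_mem _ (Subgroup.inv_mem _ (S0256.toPerm_mem slB)) h
  rw [Prod.inv_mk, Prod.mk_mul_mk, inv_mul_cancel] at h2
  exact inv_mul_eq_one.1 (S0256.compat_unique h2)

/-- the stabilizer of the last letter moves the first pair to every pair -/
theorem exists_move (v w : Fin 4 → ZMod 2) (hv : v ≠ 0) (hw : w ≠ 0) (hvw : v ≠ w) :
    ∃ g : Matrix.SpecialLinearGroup (Fin 4) (ZMod 2), S0256.toPerm g 7 = 7 ∧
      g.1 *ᵥ vec 1 = v ∧ g.1 *ᵥ vec 2 = w := by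
  have key : ∀ i < 210, ∃ g : Matrix.SpecialLinearGroup (Fin 4) (ZMod 2), S0256.toPerm g 7 = 7 ∧
      g.1 *ᵥ vec 1 = vec (pairTree.getD i (0, 0, 0, 0)).1 ∧ g.1 *ᵥ vec 2 = vec (pairTree.getD i (0, 0, 0, 0)).2.1 := by
    intro i
    induction i using Nat.strong_induction_on with
    | _ i ih =>
      intro hi
      rcases Nat.eq_zero_or_pos i with rfl | hi0
      · exact ⟨1, by simp, by simp [pairTree], by simp [pairTree]⟩
      have h := List.all_eq_true.1 tree_ok i (List.mem_range.2 hi)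
      rw [Bool.or_eq_true, beq_iff_eq] at h
      replace h := h.resolve_left (by omega)
      simp only [treeStep, Bool.and_eq_true, Nat.blt_eq, beq_iff_eq] at h
      obtain ⟨⟨⟨⟨hlt, hp1⟩, hp2⟩, he1⟩, he2⟩ := h
      obtain ⟨g, hg7, hg1, hg2⟩ := ih _ hlt (lt_trans hlt hi)
      split_ifs at he1 he2 with hgen
      · refine ⟨slA * g, ?_, ?_, ?_⟩
        · rw [map_mul, Perm.mul_apply, hg7, slA_perm]; rfl
        · rw [show (slA * g).1 = matA * g.1 from rfl, ← mulVec_mulVec, hg1, ← he1]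
          exact actA_spec ⟨_, hp1⟩
        · rw [show (slA * g).1 = matA * g.1 from rfl, ← mulVec_mulVec, hg2, ← he2]
          exact actA_spec ⟨_, hp2⟩
      · refine ⟨slB * g, ?_, ?_, ?_⟩
        · rw [map_mul, Perm.mul_apply, hg7, slB_perm]; rfl
        · rw [show (slB * g).1 = matB * g.1 from rfl, ← mulVec_mulVec, hg1, ← he1]
          exact actB_spec ⟨_, hp1⟩
        · rw [show (slB * g).1 = matB * g.1 from rfl, ← mulVec_mulVec, hg2, ← he2]
          exact actB_spec ⟨_, hp2⟩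
  have hc := List.all_eq_true.1 tree_all (code v) (List.mem_range.2 (vec_code v).2)
  have hc' := List.all_eq_true.1 hc (code w) (List.mem_range.2 (vec_code w).2)
  have h0 : ∀ u, code u = 0 → u = 0 := fun u h => by rw [← (vec_code u).1, h]; decide
  simp only [Bool.or_eq_true, beq_iff_eq, List.any_eq_true, List.mem_range, Bool.and_eq_true] at hc'
  rcases hc' with ((h | h) | h) | ⟨i, hi, h1, h2⟩
  · exact absurd (h0 v h) hv
  · exact absurd (h0 w h) hw
  · exact absurd (by rw [← (vec_code v).1, h, (vec_code w).1]) hvw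
  · obtain ⟨g, hg7, hg1, hg2⟩ := key i hi
    rw [h1, (vec_code v).1] at hg1
    rw [h2, (vec_code w).1] at hg2
    exact ⟨g, hg7, hg1, hg2⟩

/-- the isomorphism `SL₄(2) ≅ A₈` by letters -/
theorem range_toPerm : S0256.toPerm.range = alternatingGroup (Fin 8) := by
  refine Equiv.Perm.eq_alternatingGroup_of_index_eq_two ?_
  have hc : Nat.card (Matrix.SpecialLinearGroup (Fin 4) (ZMod 2)) = 20160 := by
    have h := Lib.LinGroup.card_SL_mul (F := ZMod 2) 4 (by norm_num)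
    rw [ZMod.card, Fin.prod_univ_four] at h
    norm_num [-Nat.card_eq_fintype_card] at h
    omega
  have h := S0256.toPerm.range.card_mul_index
  rw [← Nat.card_congr (MonoidHom.ofInjective S0256.toPerm_injective).toEquiv, hc, Nat.card_perm, Nat.card_fin] at h
  norm_num [Nat.factorial] at h
  omega

/-- A subgroup of `A₈` isomorphic to `A₇` is a point stabilizer. -/
theorem eq_stabilizer {H : Subgroup (alternatingGroup (Fin 8))} (hH : Nat.card H = 2520) :
    ∃ k : Fin 8, ∀ g, g ∈ H ↔ (g : Perm (Fin 8)) k = k := by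
  classical
  have hs : IsSimpleGroup (alternatingGroup (Fin 8)) := alternatingGroup.isSimpleGroup (by simp)
  have hidx : H.index = 8 := by
    have h := H.card_mul_index
    rw [hH, nat_card_alternatingGroup, Nat.card_fin] at h
    norm_num [Nat.factorial] at h
    omega
  have hc : Nat.card (alternatingGroup (Fin 8) ⧸ H) = 8 := hidx
  let e : (alternatingGroup (Fin 8) ⧸ H) ≃ Fin 8 := Nat.equivFinOfCardPos (by omega) |>.trans (finCongr hc)
  let f : alternatingGroup (Fin 8) →* Perm (Fin 8) :=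
    e.permCongrHom.toMonoidHom.comp (MulAction.toPermHom (alternatingGroup (Fin 8)) (alternatingGroup (Fin 8) ⧸ H))
  have hker : f.ker = ⊥ := f.normal_ker.eq_bot_or_eq_top.resolve_right fun htop => by
    have hne : H ≠ ⊤ := fun h => by rw [h, Subgroup.index_top] at hidx; omega
    obtain ⟨g, -, hg⟩ := SetLike.exists_of_lt (lt_top_iff_ne_top.2 hne)
    apply hg
    have h1 : f g = 1 := by rw [← MonoidHom.mem_ker, htop]; exact Subgroup.mem_top g
    have h2 : g • (QuotientGroup.mk 1 : alternatingGroup (Fin 8) ⧸ H) = QuotientGroup.mk 1 := by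
      apply e.injective
      have := congrArg (fun p : Perm (Fin 8) => p (e (QuotientGroup.mk 1))) h1
      simpa [f] using this
    rw [MulAction.Quotient.smul_mk, QuotientGroup.eq, smul_eq_mul, mul_one, mul_one] at h2
    exact H.inv_mem_iff.1 h2
  have hinj : Function.Injective f := (MonoidHom.ker_eq_bot_iff f).1 hker
  have hr : f.range = alternatingGroup (Fin 8) := by
    refine Equiv.Perm.eq_alternatingGroup_of_index_eq_two ?_
    have h := f.range.card_mul_index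
    rw [← Nat.card_congr (MonoidHom.ofInjective hinj).toEquiv, nat_card_alternatingGroup, Nat.card_perm,
      Nat.card_fin] at h
    norm_num [Nat.factorial] at h
    omega
  let φ : MulAut (alternatingGroup (Fin 8)) := (MonoidHom.ofInjective hinj).trans (MulEquiv.subgroupCongr hr)
  obtain ⟨s, hs'⟩ := Lib.AltAut.conjNormal_surjective (α := Fin 8) (by simp) (by simp) φ
  refine ⟨s⁻¹ (e (QuotientGroup.mk 1)), fun g => ?_⟩
  have hfg : f g = s * (g : Perm (Fin 8)) * s⁻¹ := by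
    have h : ((φ g : alternatingGroup (Fin 8)) : Perm (Fin 8)) = f g := rfl
    rw [← h, ← hs', MulAut.conjNormal_apply]
  have h2 : g ∈ H ↔ f g (e (QuotientGroup.mk 1)) = e (QuotientGroup.mk 1) := by
    show g ∈ H ↔ e (g • e.symm (e (QuotientGroup.mk 1))) = e (QuotientGroup.mk 1)
    rw [e.symm_apply_apply, e.apply_eq_iff_eq, MulAction.Quotient.smul_mk, QuotientGroup.eq, smul_eq_mul, mul_one,
      mul_one, H.inv_mem_iff]
  rw [h2, hfg, Perm.mul_apply, Perm.mul_apply, ← Perm.eq_inv_iff_eq]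

end Cfsg.Agent.Lib.ASevenGL
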