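import Mathlib
import Cfsg.Agent.Lib.ASevenGL.Basic
import Cfsg.Agent.Lib.Burnside.Paqb
import Cfsg.Agent.Lib.SmallGroups.Basic
import Cfsg.Agent.Lib.SmallGroups.PrimeSylow
import Cfsg.Agent.Lib.AltAut.Main
import Cfsg.Agent.S0494
import Cfsg.Agent.S0495
import Cfsg.Agent.S0255

/-!
Simple subgroups of `A₈` and their normalizers.
-/

set_option autoImplicit false

namespace Cfsg.Agent.Lib.ASevenGL

open Equiv Subgroup Cfsg.Agent.Lib.SmallGroups

/-- the alternating group of degree eight -/
abbrev AEight := ↥(alternatingGroup (Fin 8))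

theorem card_aeight : Nat.card AEight = 20160 := by
  rw [nat_card_alternatingGroup, Nat.card_fin]; norm_num [Nat.factorial]

theorem cycleType_of_orderOf {p : ℕ} [hp : Fact p.Prime] (h4 : 4 < p) {x : Perm (Fin 8)}
    (hx : orderOf x = p) : x.cycleType = {p} := by
  obtain ⟨n, hn⟩ := Perm.cycleType_prime_order (hx ▸ hp.out)
  rw [hx] at hn
  have hsum : x.cycleType.sum ≤ 8 := by
    rw [Perm.sum_cycleType]; simpa using Finset.card_le_univ x.support
  rw [hn, Multiset.sum_replicate, smul_eq_mul] at hsum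
  have : n = 0 := by
    by_contra h
    have : 2 * p ≤ (n + 1) * p := Nat.mul_le_mul_right p (by omega)
    omega
  rw [hn, this]
  rfl

theorem card_centralizer_dvd {p : ℕ} [hp : Fact p.Prime] (h4 : 4 < p) {P : Subgroup AEight}
    (hP : Nat.card P = p) : Nat.card (centralizer (P : Set AEight)) ∣ (8 - p).factorial * p := by
  obtain ⟨x, hx⟩ : ∃ x : P, x ≠ 1 := by
    have : Nontrivial P := Finite.one_lt_card_iff_nontrivial.1 (hP ▸ hp.out.one_lt)
    exact exists_ne 1
  have ho : orderOf (x.1 : Perm (Fin 8)) = p := by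
    rw [Subgroup.orderOf_coe, orderOf_eq_of_prime hP x.2 (fun h => hx (Subtype.ext h))]
  have hc := cycleType_of_orderOf h4 ho
  have hcard := Perm.nat_card_centralizer (x.1 : Perm (Fin 8))
  rw [hc, Multiset.sum_singleton, Multiset.prod_singleton, Fintype.card_fin] at hcard
  simp at hcard
  rw [← hcard, ← card_map_of_injective (alternatingGroup (Fin 8)).subtype_injective]
  refine card_dvd_of_le ?_
  rintro _ ⟨g, hg, rfl⟩
  rw [Subgroup.mem_centralizer_singleton_iff]
  exact (congrArg Subtype.val (mem_centralizer_iff.1 hg x.1 x.2)).symm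

theorem sylow_card {p m : ℕ} [Fact p.Prime] {G : Type*} [Group G] [Finite G] (P : Sylow p G)
    (h : Nat.card G = p * m) (hm : ¬ p ∣ m) : Nat.card (P : Subgroup G) = p := by
  rw [card_sylow_eq P (k := 1) (by rw [h, pow_one]) hm, pow_one]

theorem card_normalizer_seven {P : Subgroup AEight} (hP : Nat.card P = 7) :
    Nat.card (normalizer (P : Set AEight)) = 21 := by
  haveI : Fact (Nat.Prime 7) := ⟨by norm_num⟩
  have hC : Nat.card (centralizer (P : Set AEight)) = 7 := by
    have h1 := card_centralizer_dvd (by norm_num) hP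
    have h2 := card_dvd_of_le (le_centralizer_of_prime hP)
    rw [hP] at h2
    exact Nat.dvd_antisymm (by simpa using h1) h2
  obtain ⟨e, he, hN⟩ := exists_card_normalizer_eq hP
  rw [hC] at hN
  let S : Sylow 7 AEight := Sylow.ofCard P (by
    rw [hP, card_aeight]
    rw [show (20160 : ℕ) = 7 ^ 1 * 2880 by norm_num, Nat.factorization_mul (by norm_num) (by norm_num)]
    simp [Nat.Prime.factorization_self (by norm_num : Nat.Prime 7),
      Nat.factorization_eq_zero_of_not_dvd (by norm_num : ¬ 7 ∣ 2880)])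
  have h1 := card_normalizer_sylow_mul S
  have h2 := card_sylow_modEq_one 7 AEight
  rw [card_aeight] at h1
  change Nat.card (normalizer (P : Set AEight)) * _ = _ at h1
  rw [hN] at h1 ⊢
  have he' : e = 1 ∨ e = 2 ∨ e = 3 ∨ e = 6 := by
    have := Nat.le_of_dvd (by norm_num) he
    interval_cases e <;> simp_all
  unfold Nat.ModEq at h2
  rcases he' with rfl | rfl | rfl | rfl <;> omega

theorem solvable_of_dvd {G : Type*} [Group G] [Finite G] (h : Nat.card G ∣ 20160)
    (h5 : ¬ 5 ∣ Nat.card G) (h7 : ¬ 7 ∣ Nat.card G) : Group.IsSolvable G := by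
  have h' : Nat.card G ∣ 2 ^ 6 * 3 ^ 2 := by
    have c5 : Nat.Coprime (Nat.card G) 5 := ((Nat.prime_five).coprime_iff_not_dvd.2 h5).symm
    have c7 : Nat.Coprime (Nat.card G) 7 :=
      ((by norm_num : Nat.Prime 7).coprime_iff_not_dvd.2 h7).symm
    rw [show (20160 : ℕ) = 2 ^ 6 * 3 ^ 2 * 5 * 7 by norm_num] at h
    exact c5.dvd_of_dvd_mul_right (c7.dvd_of_dvd_mul_right h)
  obtain ⟨d1, d2, h1, h2, he⟩ := Nat.dvd_mul.mp h'
  obtain ⟨a, -, rfl⟩ := (Nat.dvd_prime_pow Nat.prime_two).mp h1
  obtain ⟨b, -, rfl⟩ := (Nat.dvd_prime_pow Nat.prime_three).mp h2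
  exact Burnside.isSolvable_of_card_eq_prime_pow_mul Nat.prime_two Nat.prime_three he.symm

theorem five_or_seven_dvd {G : Type*} [Group G] [Finite G] [IsSimpleGroup G] (hG : ¬ IsMulCommutative G)
    (h : Nat.card G ∣ 20160) : 5 ∣ Nat.card G ∨ 7 ∣ Nat.card G := by
  by_contra hc
  rw [not_or] at hc
  exact not_isSolvable hG (solvable_of_dvd h hc.1 hc.2)

/-- nonzero vectors -/
abbrev NzVec := {v : Fin 4 → ZMod 2 // v ≠ 0}

/-- action of the matrices on nonzero vectors -/
def vecPerm : Matrix.SpecialLinearGroup (Fin 4) (ZMod 2) →* Perm NzVec where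
  toFun g :=
    { toFun := fun v => ⟨g.1.mulVec v.1, fun h => v.2 (by
        have := congrArg ((g⁻¹).1.mulVec) h
        rwa [Matrix.mulVec_mulVec, ← Matrix.SpecialLinearGroup.coe_mul, inv_mul_cancel,
          Matrix.SpecialLinearGroup.coe_one, Matrix.one_mulVec, Matrix.mulVec_zero] at this)⟩
      invFun := fun v => ⟨(g⁻¹).1.mulVec v.1, fun h => v.2 (by
        have := congrArg (g.1.mulVec) h
        rwa [Matrix.mulVec_mulVec, ← Matrix.SpecialLinearGroup.coe_mul, mul_inv_cancel,
          Matrix.SpecialLinearGroup.coe_one, Matrix.one_mulVec, Matrix.mulVec_zero] at this)⟩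
      left_inv := fun v => Subtype.ext (by
        show (g⁻¹).1.mulVec (g.1.mulVec v.1) = v.1
        rw [Matrix.mulVec_mulVec, ← Matrix.SpecialLinearGroup.coe_mul, inv_mul_cancel,
          Matrix.SpecialLinearGroup.coe_one, Matrix.one_mulVec])
      right_inv := fun v => Subtype.ext (by
        show g.1.mulVec ((g⁻¹).1.mulVec v.1) = v.1
        rw [Matrix.mulVec_mulVec, ← Matrix.SpecialLinearGroup.coe_mul, mul_inv_cancel,
          Matrix.SpecialLinearGroup.coe_one, Matrix.one_mulVec]) }
  map_one' := Perm.ext fun v => Subtype.ext (by simp)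
  map_mul' g h := Perm.ext fun v => Subtype.ext (by simp [Matrix.mulVec_mulVec])

theorem exists_transvection : ∀ v : Fin 4 → ZMod 2, v ≠ 0 → ∃ w : Fin 4 → ZMod 2, w ≠ 0 ∧ dotProduct w v = 0 := by
  decide +kernel

theorem add_self_vec (v : Fin 4 → ZMod 2) : v + v = 0 :=
  funext fun i => by simp [CharTwo.add_self_eq_zero]

theorem exists_other : ∀ u : Fin 4 → ZMod 2, ∃ w : Fin 4 → ZMod 2, w ≠ 0 ∧ u ≠ w := by decide +kernel

theorem zmod_two_cases : ∀ c : ZMod 2, c = 0 ∨ c = 1 := by decide

theorem card_nzVec : Nat.card NzVec = 15 := by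
  rw [Nat.card_eq_fintype_card]; decide

theorem not_simple_1344 {N : Subgroup AEight} [hs : IsSimpleGroup N] (hcard : Nat.card N = 1344) : False := by
  classical
  haveI : Fact (Nat.Prime 2) := ⟨Nat.prime_two⟩
  have hG : ¬ IsMulCommutative N := not_isMulCommutative_of_not_prime (by rw [hcard]; norm_num)
  let eS : Matrix.SpecialLinearGroup (Fin 4) (ZMod 2) ≃* AEight :=
    (MonoidHom.ofInjective S0256.toPerm_injective).trans (MulEquiv.subgroupCongr range_toPerm)
  let ψ : N →* Matrix.SpecialLinearGroup (Fin 4) (ZMod 2) := eS.symm.toMonoidHom.comp N.subtype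
  have hψ : Function.Injective ψ := eS.symm.injective.comp N.subtype_injective
  letI := MulAction.compHom NzVec (vecPerm.comp ψ)
  let S : Sylow 2 N := default
  have hS : Nat.card (S : Subgroup N) = 64 :=
    (card_sylow_eq S (k := 6) (m := 21) (by rw [hcard]; norm_num) (by norm_num)).trans (by norm_num)
  obtain ⟨v0, hv0⟩ := S.isPGroup'.nonempty_fixed_point_of_prime_not_dvd_card NzVec
    (by rw [card_nzVec]; norm_num)
  have hle : (S : Subgroup N) ≤ MulAction.stabilizer N v0 := fun g hg => hv0 ⟨g, hg⟩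
  have hd : (MulAction.stabilizer N v0).index ∣ 21 := by
    have h := Subgroup.index_dvd_of_le hle
    have h2 := (S : Subgroup N).card_mul_index
    rw [hS, hcard] at h2
    have : (S : Subgroup N).index = 21 := by omega
    rwa [this] at h
  have hle15 : (MulAction.stabilizer N v0).index ≤ 15 := by
    rw [MulAction.index_stabilizer, ← card_nzVec, ← Nat.card_coe_set_eq]
    exact Finite.card_subtype_le _
  have htop : MulAction.stabilizer N v0 = ⊤ := eq_top_of_not_dvd_factorial hG (by
    have := Nat.le_of_dvd (by norm_num) hd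
    rw [hcard]
    intro h
    have h7 : (MulAction.stabilizer N v0).index ≤ 7 := by
      generalize (MulAction.stabilizer N v0).index = i at hd hle15
      interval_cases i <;> simp_all
    have := h.trans (Nat.factorial_dvd_factorial h7)
    norm_num [Nat.factorial] at this)
  -- the point stabilizer in the linear group
  letI : MulAction (Matrix.SpecialLinearGroup (Fin 4) (ZMod 2)) NzVec := MulAction.compHom NzVec vecPerm
  let U := MulAction.stabilizer (Matrix.SpecialLinearGroup (Fin 4) (ZMod 2)) v0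
  haveI : MulAction.IsPretransitive (Matrix.SpecialLinearGroup (Fin 4) (ZMod 2)) NzVec := by
    refine ⟨fun x y => ?_⟩
    have h2 : ∀ z : NzVec, ∃ g : Matrix.SpecialLinearGroup (Fin 4) (ZMod 2), g.1.mulVec (vec 1) = z.1 := fun z => by
      obtain ⟨w, hw, hzw⟩ := exists_other z.1
      obtain ⟨g, -, hg, -⟩ := exists_move z.1 w z.2 hw hzw
      exact ⟨g, hg⟩
    obtain ⟨g1, hg1⟩ := h2 x
    obtain ⟨g2, hg2⟩ := h2 y
    refine ⟨g2 * g1⁻¹, Subtype.ext ?_⟩
    show (g2 * g1⁻¹).1.mulVec x.1 = y.1
    rw [← hg1, Matrix.mulVec_mulVec, ← Matrix.SpecialLinearGroup.coe_mul, mul_assoc, inv_mul_cancel, mul_one, hg2]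
  have hU : Nat.card U = 1344 := by
    have h := U.card_mul_index
    rw [show U.index = 15 from (MulAction.index_stabilizer_of_transitive _ v0).trans card_nzVec,
      Nat.card_congr eS.toEquiv, card_aeight] at h
    omega
  have hrU : ψ.range = U := by
    refine Subgroup.eq_of_le_of_card_ge ?_ ?_
    · rintro _ ⟨n, rfl⟩
      exact (htop ▸ Subgroup.mem_top n : n ∈ MulAction.stabilizer N v0)
    · rw [hU, ← Nat.card_congr (MonoidHom.ofInjective hψ).toEquiv, hcard]
  have hfix : ∀ n : N, (ψ n).1.mulVec v0.1 = v0.1 := fun n =>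
    congrArg Subtype.val (htop ▸ Subgroup.mem_top n : n ∈ MulAction.stabilizer N v0)
  let M : Subgroup N :=
    { carrier := {n | ∀ x, (ψ n).1.mulVec x = x ∨ (ψ n).1.mulVec x = x + v0.1}
      one_mem' := fun x => Or.inl (by simp)
      mul_mem' := fun {a b} ha hb x => by
        rw [map_mul, Matrix.SpecialLinearGroup.coe_mul, ← Matrix.mulVec_mulVec]
        rcases hb x with hb | hb <;> rw [hb]
        · exact ha x
        · rw [Matrix.mulVec_add, hfix a]
          rcases ha x with ha | ha <;> rw [ha]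
          · exact Or.inr rfl
          · left; rw [add_assoc, add_self_vec, add_zero]
      inv_mem' := fun {a} ha x => by
        have hx : (ψ a).1.mulVec ((ψ a⁻¹).1.mulVec x) = x := by
          rw [Matrix.mulVec_mulVec, ← Matrix.SpecialLinearGroup.coe_mul, ← map_mul, mul_inv_cancel, map_one,
            Matrix.SpecialLinearGroup.coe_one, Matrix.one_mulVec]
        rcases ha ((ψ a⁻¹).1.mulVec x) with h | h <;> rw [hx] at h
        · exact Or.inl h.symm
        · right; conv_rhs => rw [h]
          rw [add_assoc, add_self_vec, add_zero] }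
  have hM : M.Normal := ⟨fun m hm h x => by
    have hx : (ψ h).1.mulVec ((ψ h⁻¹).1.mulVec x) = x := by
      rw [Matrix.mulVec_mulVec, ← Matrix.SpecialLinearGroup.coe_mul, ← map_mul, mul_inv_cancel, map_one,
        Matrix.SpecialLinearGroup.coe_one, Matrix.one_mulVec]
    rw [map_mul, map_mul, Matrix.SpecialLinearGroup.coe_mul, Matrix.SpecialLinearGroup.coe_mul,
      ← Matrix.mulVec_mulVec, ← Matrix.mulVec_mulVec]
    rcases hm ((ψ h⁻¹).1.mulVec x) with e | e <;> rw [e]
    · exact Or.inl hx
    · rw [Matrix.mulVec_add, hx, hfix]; exact Or.inr rfl⟩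
  -- a transvection lies in `M`
  obtain ⟨w, hw, hwv⟩ := exists_transvection v0.1 v0.2
  let A : Matrix (Fin 4) (Fin 4) (ZMod 2) := 1 + Matrix.vecMulVec v0.1 w
  have hA : ∀ x, A.mulVec x = x + dotProduct w x • v0.1 := fun x => by
    rw [Matrix.add_mulVec, Matrix.one_mulVec, Matrix.vecMulVec_mulVec]
    congr 1
    funext i; simp [mul_comm]
  have hdet : A.det = 1 := by
    show (1 + Matrix.vecMulVec v0.1 w).det = 1
    rw [Matrix.vecMulVec_eq (Fin 1), Matrix.det_one_add_replicateCol_mul_replicateRow, dotProduct_comm, dotProduct_comm]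
    simp [hwv]
  let t : Matrix.SpecialLinearGroup (Fin 4) (ZMod 2) := ⟨A, hdet⟩
  have htU : t ∈ ψ.range := by
    rw [hrU]
    refine Subtype.ext ?_
    show A.mulVec v0.1 = v0.1
    rw [hA, hwv, zero_smul, add_zero]
  obtain ⟨n, hn⟩ := htU
  have hnM : n ∈ M := fun x => by
    rw [hn]
    show A.mulVec x = x ∨ A.mulVec x = x + v0.1
    rw [hA]
    rcases zmod_two_cases (dotProduct w x) with h | h <;> simp [h]
  have hn1 : n ≠ 1 := by
    rintro rfl
    rw [map_one] at hn
    obtain ⟨i, hi⟩ := Function.ne_iff.1 hw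
    have h := congrArg (fun g : Matrix.SpecialLinearGroup (Fin 4) (ZMod 2) => g.1.mulVec (Pi.single i 1)) hn
    simp only [Matrix.SpecialLinearGroup.coe_one, Matrix.one_mulVec] at h
    change _ = A.mulVec (Pi.single i 1) at h
    rw [hA, dotProduct_single, mul_one, left_eq_add] at h
    exact hi ((smul_eq_zero.1 h).resolve_right v0.2)
  have hMtop : M = ⊤ := hM.eq_bot_or_eq_top.resolve_left fun h => hn1 (Subgroup.mem_bot.1 (h ▸ hnM))
  apply hG
  have hsq : ∀ a : N, a * a = 1 := fun a => hψ <| Subtype.ext <| Matrix.ext_of_mulVec_single fun i => by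
    rw [map_mul, map_one, Matrix.SpecialLinearGroup.coe_mul, Matrix.SpecialLinearGroup.coe_one,
      ← Matrix.mulVec_mulVec, Matrix.one_mulVec]
    have ha : a ∈ M := hMtop ▸ Subgroup.mem_top a
    rcases ha (Pi.single i 1) with h | h <;> rw [h]
    · exact h
    · rw [Matrix.mulVec_add, h, hfix, add_assoc, add_self_vec, add_zero]
  refine IsMulCommutative.of_comm fun a b => ?_
  have ha : ∀ a : N, a⁻¹ = a := fun a => inv_eq_of_mul_eq_one_right (hsq a)
  calc a * b = (a * b)⁻¹ := (ha _).symm
    _ = b * a := by rw [mul_inv_rev, ha, ha]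

end Cfsg.Agent.Lib.ASevenGL
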