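import Mathlib
import Cfsg.Agent.Lib.ASevenGL.Simple

/-!
Subgroups of `A₈` without non-trivial solvable normal subgroup.
-/

set_option autoImplicit false

namespace Cfsg.Agent.Lib.ASevenGL

open Equiv Subgroup Cfsg.Agent.Lib.SmallGroups

/-- The list of the groups that occur. -/
def InList (X : Type*) [Group X] : Prop :=
  (∃ n : ℕ, 5 ≤ n ∧ n ≤ 8 ∧ Nonempty (X ≃* alternatingGroup (Fin n))) ∨
    Nonempty (X ≃* Perm (Fin 5)) ∨ Nonempty (X ≃* Perm (Fin 6)) ∨ Nonempty (X ≃* GL (Fin 3) (ZMod 2))

theorem card_dvd_aeight (N : Subgroup AEight) : Nat.card N ∣ 20160 :=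
  card_aeight ▸ N.card_subgroup_dvd_card

theorem card_sylow_prime {p : ℕ} [Fact p.Prime] (hp : p = 5 ∨ p = 7) (N : Subgroup AEight)
    (h : p ∣ Nat.card N) (P : Sylow p N) : Nat.card (P : Subgroup N) = p := by
  obtain ⟨m, hm⟩ := h
  refine sylow_card P hm fun ⟨c, hc⟩ => ?_
  have h2 : p * p ∣ 20160 := Dvd.dvd.trans (⟨c, by rw [hm, hc]; ring⟩ : p * p ∣ Nat.card N) (card_dvd_aeight N)
  rcases hp with rfl | rfl <;> norm_num at h2

theorem seven_facts {N : Subgroup AEight} [IsSimpleGroup N] (hG : ¬ IsMulCommutative N)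
    (h7 : 7 ∣ Nat.card N) :
    normalizer (N : Set AEight) = N ∧
      (Nat.card N = 168 ∨ Nat.card N = 2520 ∨ Nat.card N = 20160) := by
  haveI : Fact (Nat.Prime 7) := ⟨by norm_num⟩
  let P : Sylow 7 N := default
  have hP := card_sylow_prime (Or.inr rfl) N h7 P
  obtain ⟨e, he, he1, hC, hcard⟩ := exists_card_normalizer_eq_of_simple hG P hP
  let Q : Subgroup AEight := (P : Subgroup N).map N.subtype
  have hQ : Nat.card Q = 7 := by rw [card_map_of_injective N.subtype_injective, hP]
  have hsub : (normalizer ((P : Subgroup N) : Set N)).map N.subtype ≤ normalizer (Q : Set AEight) :=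
    Subgroup.le_normalizer_map N.subtype
  have hd := card_dvd_of_le hsub
  rw [card_map_of_injective N.subtype_injective, card_normalizer_seven hQ, hcard] at hd
  obtain ⟨c, hc⟩ := hC
  have he3 : e ∣ 3 := by
    rw [hc, show (21 : ℕ) = 7 * 3 by norm_num, show e * (7 * c) = 7 * (e * c) by ring] at hd
    exact (dvd_mul_right e c).trans (Nat.dvd_of_mul_dvd_mul_left (by norm_num) hd)
  obtain rfl : e = 3 := ((Nat.dvd_prime Nat.prime_three).1 he3).resolve_left he1
  have hN21 : Nat.card (normalizer ((P : Subgroup N) : Set N)) = 21 := by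
    rw [hc, show (21 : ℕ) = 3 * (7 * 1) by norm_num] at hd
    have := Nat.dvd_of_mul_dvd_mul_left (by norm_num : 0 < 7) (Nat.dvd_of_mul_dvd_mul_left (by norm_num : 0 < 3) hd)
    rw [Nat.dvd_one] at this
    rw [hcard, hc, this]
  have heq : (normalizer ((P : Subgroup N) : Set N)).map N.subtype = normalizer (Q : Set AEight) :=
    Subgroup.eq_of_le_of_card_ge hsub (by
      rw [card_map_of_injective N.subtype_injective, hN21, card_normalizer_seven hQ])
  refine ⟨le_antisymm (fun h hh => ?_) Subgroup.le_normalizer, ?_⟩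
  · have hQN : Q.map (MulAut.conj h).toMonoidHom ≤ N := by
      rintro _ ⟨_, ⟨x, -, rfl⟩, rfl⟩
      exact (mem_normalizer_iff.1 hh x.1).1 x.2
    let S : Sylow 7 N := Sylow.ofCard ((Q.map (MulAut.conj h).toMonoidHom).subgroupOf N) (by
      rw [Nat.card_congr (subgroupOfEquivOfLe hQN).toEquiv, card_map_of_injective (MulAut.conj h).injective, hQ]
      exact hP.symm.trans P.card_eq_multiplicity)
    obtain ⟨n, hn⟩ := MulAction.exists_smul_eq N S P
    have hn' : ((Q.map (MulAut.conj h).toMonoidHom).subgroupOf N).map (MulAut.conj n).toMonoidHom = (P : Subgroup N) := by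
      rw [← hn]; rfl
    have h2 := congrArg (Subgroup.map N.subtype) hn'
    have hcomp : N.subtype.comp (MulAut.conj n).toMonoidHom = (MulAut.conj (n : AEight)).toMonoidHom.comp N.subtype :=
      MonoidHom.ext fun x => rfl
    rw [map_map, hcomp, ← map_map, map_subgroupOf_eq_of_le hQN, map_map] at h2
    have h3 : (n : AEight) * h ∈ normalizer (Q : Set AEight) := by
      rw [mem_normalizer_iff_map_conj_eq]
      convert h2 using 2
      exact MonoidHom.ext fun x => by simp [mul_assoc]
    rw [← heq] at h3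
    obtain ⟨y, -, hy⟩ := h3
    have : h = (n⁻¹ * y : N) := by
      rw [Subgroup.coe_mul, Subgroup.coe_inv, show (y : AEight) = (n : AEight) * h from hy, inv_mul_cancel_left]
    exact this ▸ SetLike.coe_mem _
  · have h1 := card_normalizer_sylow_mul P
    rw [hN21] at h1
    have hd := card_dvd_aeight N
    rw [← h1, show (20160 : ℕ) = 21 * 960 by norm_num] at hd
    have hn := Nat.dvd_of_mul_dvd_mul_left (by norm_num) hd
    have hm := card_sylow_modEq_one 7 N
    have hne := card_sylow_ne_one hG 7 h7
    unfold Nat.ModEq at hm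
    have hmem : Nat.card (Sylow 7 N) ∈ (Nat.divisors 960).filter (fun d => d % 7 = 1 ∧ d ≠ 1) := by
      rw [Finset.mem_filter, Nat.mem_divisors]
      exact ⟨⟨hn, by norm_num⟩, by simpa using hm, hne⟩
    rw [show (Nat.divisors 960).filter (fun d => d % 7 = 1 ∧ d ≠ 1) = {8, 15, 64, 120, 960} by decide +kernel] at hmem
    simp only [Finset.mem_insert, Finset.mem_singleton] at hmem
    rcases hmem with hk | hk | hk | hk | hk <;> rw [hk] at h1
    · exact Or.inl h1.symm
    · exfalso
      haveI : Fact (Nat.Prime 5) := ⟨by norm_num⟩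
      let R : Sylow 5 N := default
      obtain ⟨e', he', he1', -, hcard'⟩ :=
        exists_card_normalizer_eq_of_simple hG R (card_sylow_prime (Or.inl rfl) N (by rw [← h1]; norm_num) R)
      have hd' : e' ∣ 315 := by
        rw [show (315 : ℕ) = Nat.card N by rw [← h1]]
        exact (hcard' ▸ dvd_mul_right e' _).trans (card_subgroup_dvd_card _)
      have hg := Nat.dvd_gcd he' hd'
      norm_num at hg
      exact he1' hg
    · exact (not_simple_1344 (N := N) h1.symm).elim
    · exact Or.inr (Or.inl h1.symm)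
    · exact Or.inr (Or.inr h1.symm)

/-- restriction of the permutations preserving a set of letters -/
def restrictHom (K : Subgroup AEight) (p : Fin 8 → Prop) (h : ∀ g ∈ K, ∀ x, p ((g : Perm (Fin 8)) x) ↔ p x) :
    K →* Perm {x // p x} where
  toFun g := (g.1.1).subtypePerm (h g g.2)
  map_one' := Perm.ext fun _ => rfl
  map_mul' _ _ := Perm.ext fun _ => rfl

theorem nonempty_alternating_of_injective {X : Type*} [Group X] [Finite X] {n : ℕ} {α : Type*} [Finite α]
    (hα : Nat.card α = n) (hn : 2 ≤ n) (f : X →* Perm α) (hf : Function.Injective f)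
    (hX : 2 * Nat.card X = n.factorial) : Nonempty (X ≃* alternatingGroup (Fin n)) := by
  classical
  let e : α ≃ Fin n := Finite.equivFinOfCardEq hα
  let g : X →* Perm (Fin n) := e.permCongrHom.toMonoidHom.comp f
  have hg : Function.Injective g := e.permCongrHom.injective.comp hf
  have hr : g.range = alternatingGroup (Fin n) := by
    refine Perm.eq_alternatingGroup_of_index_eq_two ?_
    have h := g.range.card_mul_index
    rw [← Nat.card_congr (MonoidHom.ofInjective hg).toEquiv, Nat.card_perm, Nat.card_fin, ← hX, mul_comm 2] at h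
    exact Nat.eq_of_mul_eq_mul_left Nat.card_pos h
  exact ⟨(MonoidHom.ofInjective hg).trans (MulEquiv.subgroupCongr hr)⟩

theorem nonempty_gl_of_168 {X : Type*} [Group X] [Finite X] [IsSimpleGroup X] (h : Nat.card X = 168) :
    Nonempty (X ≃* GL (Fin 3) (ZMod 2)) := by
  haveI : Fact (Nat.Prime 7) := ⟨by norm_num⟩
  obtain ⟨a⟩ := S0495.result h (F := ZMod 7) (ZMod.card 7)
  obtain ⟨b⟩ := S0255.result (F := ZMod 7) (K := ZMod 2) (ZMod.card 7) (ZMod.card 2)
  have hz : center (Matrix.SpecialLinearGroup (Fin 3) (ZMod 2)) = ⊥ := by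
    refine (eq_bot_iff_forall _).2 fun z hz => ?_
    obtain ⟨r, hr, hsc⟩ := Matrix.SpecialLinearGroup.mem_center_iff.1 hz
    have hr1 : r = 1 := by
      rcases zmod_two_cases r with h | h
      · exfalso; rw [h] at hr; norm_num at hr
      · exact h
    exact Subtype.ext (by rw [← hsc, hr1, map_one]; rfl)
  have hbij : Function.Bijective (Matrix.SpecialLinearGroup.toGL : Matrix.SpecialLinearGroup (Fin 3) (ZMod 2) →* GL (Fin 3) (ZMod 2)) := by
    refine ⟨fun x y h => Subtype.ext (congrArg Units.val h), fun g => ⟨⟨g.1, ?_⟩, Units.ext rfl⟩⟩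
    exact (zmod_two_cases _).resolve_left ((Matrix.isUnit_iff_isUnit_det _).1 g.isUnit).ne_zero
  exact ⟨a.trans (b.trans (((QuotientGroup.quotientMulEquivOfEq hz).trans QuotientGroup.quotientBot).trans
    (MulEquiv.ofBijective _ hbij)))⟩

theorem seven_case {N : Subgroup AEight} [IsSimpleGroup N] (hG : ¬ IsMulCommutative N)
    (h7 : 7 ∣ Nat.card N) : InList N := by
  obtain ⟨-, h | h | h⟩ := seven_facts hG h7
  · exact Or.inr (Or.inr (Or.inr (nonempty_gl_of_168 h)))
  · obtain ⟨k, hk⟩ := eq_stabilizer h
    have hinv : ∀ g ∈ N, ∀ x : Fin 8, ((g : Perm (Fin 8)) x ≠ k) ↔ x ≠ k := fun g hg x => by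
      have := (hk g).1 hg
      exact not_congr ⟨fun e => (g : Perm (Fin 8)).injective (e.trans this.symm), fun e => e ▸ this⟩
    refine Or.inl ⟨7, by norm_num, by norm_num, nonempty_alternating_of_injective (α := {x // x ≠ k}) ?_ (by norm_num)
      (restrictHom N (fun x => x ≠ k) hinv) ?_ (by rw [h]; norm_num [Nat.factorial])⟩
    · rw [Nat.card_eq_fintype_card, Fintype.card_subtype_compl, Fintype.card_fin, Fintype.card_subtype_eq]
    · intro a b hab
      refine Subtype.ext (Subtype.ext (Perm.ext fun x => ?_))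
      by_cases hx : x = k
      · rw [hx, (hk a).1 a.2, (hk b).1 b.2]
      · exact congrArg Subtype.val (Perm.ext_iff.1 hab ⟨x, hx⟩)
  · have : N = ⊤ := Subgroup.eq_top_of_card_eq N (by rw [h, card_aeight])
    exact Or.inl ⟨8, by norm_num, by norm_num, ⟨(MulEquiv.subgroupCongr this).trans Subgroup.topEquiv⟩⟩

theorem two_transitive_false {N : Subgroup AEight} [IsSimpleGroup N] (hG : ¬ IsMulCommutative N)
    (h5 : 5 ∣ Nat.card N) (h7 : ¬ 7 ∣ Nat.card N) (ht : MulAction.IsPretransitive N (Fin 8)) : False := by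
  classical
  have hidx : ∀ x : Fin 8, (MulAction.stabilizer N x).index = 8 := fun x => by
    rw [MulAction.index_stabilizer_of_transitive, Nat.card_fin]
  have hsmall : ∀ H : Subgroup N, H.index ≤ 4 → H = ⊤ := fun H hH => eq_top_of_not_dvd_factorial hG fun h => by
    have h' : 5 ∣ (4 : ℕ).factorial := (h5.trans (dvd_mul_left _ 2)).trans (h.trans (Nat.factorial_dvd_factorial hH))
    norm_num [Nat.factorial] at h'
  have hprim : MulAction.IsPreprimitive N (Fin 8) := by
    rw [← MulAction.isCoatom_stabilizer_iff_preprimitive N (0 : Fin 8)]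
    refine ⟨fun h => by have := hidx 0; rw [h, index_top] at this; omega, fun L hL => hsmall L ?_⟩
    have hd := Subgroup.index_dvd_of_le hL.le
    rw [hidx] at hd
    have hne : L.index ≠ 8 := fun h => hL.ne (Subgroup.eq_of_le_of_card_ge hL.le (by
      have h1 := L.card_mul_index
      have h2 := (MulAction.stabilizer N (0 : Fin 8)).card_mul_index
      rw [h] at h1; rw [hidx] at h2
      omega))
    have := Nat.le_of_dvd (by norm_num) hd
    generalize L.index = i at hd hne this ⊢
    interval_cases i <;> omega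
  haveI : Fact (Nat.Prime 5) := ⟨by norm_num⟩
  obtain ⟨σ, hσ⟩ := exists_prime_orderOf_dvd_card' 5 h5
  have ho : orderOf (σ.1.1 : Perm (Fin 8)) = 5 := by rw [Subgroup.orderOf_coe, Subgroup.orderOf_coe, hσ]
  have hc := cycleType_of_orderOf (by norm_num) ho
  have hcyc : (σ.1.1 : Perm (Fin 8)).IsCycle := by
    rw [← Perm.card_cycleType_eq_one, hc, Multiset.card_singleton]
  have hsupp : (σ.1.1 : Perm (Fin 8)).support.card = 5 := by
    rw [← Perm.sum_cycleType, hc, Multiset.sum_singleton]
  let s : Set (Fin 8) := {x | (σ.1.1 : Perm (Fin 8)) x = x}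
  have hs : s.ncard = 2 + 1 := by
    have : s = ↑((σ.1.1 : Perm (Fin 8)).support)ᶜ := by ext x; simp [s]
    rw [this, Set.ncard_coe_finset, Finset.card_compl, hsupp, Fintype.card_fin]
  have h2 := hprim.is_two_pretransitive hs (by rw [Nat.card_fin]; norm_num) ⟨fun a b => by
    obtain ⟨i, hi⟩ := hcyc.exists_pow_eq (x := a.1) (y := b.1) a.2 b.2
    refine ⟨⟨σ ^ i, ?_⟩, Subtype.ext hi⟩
    rw [mem_fixingSubgroup_iff]
    intro y hy
    show ((σ.1.1 : Perm (Fin 8)) ^ i) y = y
    exact Perm.pow_apply_eq_self_of_apply_eq_self hy i⟩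
  apply h7
  rw [MulAction.is_two_pretransitive_iff] at h2
  have horb : MulAction.orbit (MulAction.stabilizer N (0 : Fin 8)) (1 : Fin 8) = {0}ᶜ := by
    ext y
    constructor
    · rintro ⟨g, rfl⟩ hy
      have hg : g.1 • (0 : Fin 8) = 0 := g.2
      exact absurd (MulAction.injective g.1 (hy.trans hg.symm)) (by decide)
    · intro hy
      obtain ⟨g, hg0, hg1⟩ := h2 (a := (0 : Fin 8)) (b := 1) (c := 0) (d := y) (by decide) (Ne.symm hy)
      exact ⟨⟨g, hg0⟩, hg1⟩
  have h := MulAction.index_stabilizer (MulAction.stabilizer N (0 : Fin 8)) (1 : Fin 8)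
  rw [horb, Set.ncard_compl, Set.ncard_singleton, Nat.card_fin] at h
  exact (h ▸ Subgroup.index_dvd_card _).trans (card_subgroup_dvd_card _)

theorem five_facts {N : Subgroup AEight} [IsSimpleGroup N] (hG : ¬ IsMulCommutative N)
    (h5 : 5 ∣ Nat.card N) (h7 : ¬ 7 ∣ Nat.card N) :
    Nat.card N = 60 ∨ (Nat.card N = 360 ∧ ∃ x : Fin 8, Nat.card (MulAction.orbit N x) = 6 ∧
      ∀ y, y ∉ MulAction.orbit N x → ∀ n : N, n • y = y) := by
  classical
  have horb : ∀ x : Fin 8, Nat.card (MulAction.orbit N x) ∈ ({1, 5, 6, 8} : Finset ℕ) := fun x => by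
    rw [Nat.card_coe_set_eq, ← MulAction.index_stabilizer]
    by_cases hle : (MulAction.stabilizer N x).index ≤ 4
    · have : MulAction.stabilizer N x = ⊤ := eq_top_of_not_dvd_factorial hG fun h => by
        have h' : 5 ∣ (4 : ℕ).factorial := (h5.trans (dvd_mul_left _ 2)).trans (h.trans (Nat.factorial_dvd_factorial hle))
        norm_num [Nat.factorial] at h'
      simp [this]
    · have hle8 : (MulAction.stabilizer N x).index ≤ 8 := by
        rw [MulAction.index_stabilizer]
        exact (Set.ncard_le_card _).trans (Nat.card_fin 8).le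
      have hne7 : (MulAction.stabilizer N x).index ≠ 7 := fun h => h7 (h ▸ Subgroup.index_dvd_card _)
      simp only [Finset.mem_insert, Finset.mem_singleton]
      omega
  obtain ⟨x, hx⟩ : ∃ x : Fin 8, 1 < Nat.card (MulAction.orbit N x) := by
    by_contra h
    push Not at h
    obtain ⟨a, ha⟩ := exists_ne (1 : N)
    apply ha
    refine Subtype.ext (Subtype.ext (Perm.ext fun x => ?_))
    have h1 := h x
    rw [Nat.card_coe_set_eq, Set.ncard_le_one] at h1
    exact h1 (a • x) (MulAction.mem_orbit _ _) x (MulAction.mem_orbit_self _)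
  have hfix : ∀ y, y ∉ MulAction.orbit N x → ∀ n : N, n • y = y := fun y hy n => by
    have hd : Disjoint (MulAction.orbit N x) (MulAction.orbit N y) :=
      (MulAction.orbit.eq_or_disjoint x y).resolve_left fun h => hy (h ▸ MulAction.mem_orbit_self y)
    have h1 : (MulAction.orbit N x).ncard + (MulAction.orbit N y).ncard ≤ 8 := by
      rw [← Set.ncard_union_eq hd]; exact (Set.ncard_le_card _).trans (Nat.card_fin 8).le
    have h2 := horb x
    have h3 := horb y
    simp only [Nat.card_coe_set_eq, Finset.mem_insert, Finset.mem_singleton] at h2 h3 hx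
    have h4 : (MulAction.orbit N y).ncard ≤ 1 := by omega
    rw [Set.ncard_le_one] at h4
    exact h4 (n • y) (MulAction.mem_orbit _ _) y (MulAction.mem_orbit_self _)
  -- `N` acts faithfully on the orbit
  let f : N →* Perm (MulAction.orbit N x) := MulAction.toPermHom N (MulAction.orbit N x)
  have hf : Function.Injective f := by
    intro a b hab
    refine Subtype.ext (Subtype.ext (Perm.ext fun y => ?_))
    by_cases hy : y ∈ MulAction.orbit N x
    · exact congrArg Subtype.val (Perm.ext_iff.1 hab ⟨y, hy⟩)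
    · exact (hfix y hy a).trans (hfix y hy b).symm
  have hd2 : 2 * Nat.card N ∣ (Nat.card (MulAction.orbit N x)).factorial := by
    have hev : ∀ n, f n ∈ alternatingGroup (MulAction.orbit N x) := fun n => Perm.mem_alternatingGroup.2 (sign_toPerm hG _ n)
    haveI : Nontrivial (MulAction.orbit N x) := Finite.one_lt_card_iff_nontrivial.1 hx
    rw [← Nat.card_perm, ← two_mul_nat_card_alternatingGroup]
    exact Nat.mul_dvd_mul_left 2 (Subgroup.card_dvd_of_injective (f.codRestrict _ hev)
      fun a b h => hf (congrArg Subtype.val h))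
  -- the order is at least sixty
  haveI : Fact (Nat.Prime 5) := ⟨by norm_num⟩
  let P : Sylow 5 N := default
  have hP := card_sylow_prime (Or.inl rfl) N h5 P
  obtain ⟨e, he, he1, hC, hcard⟩ := exists_card_normalizer_eq_of_simple hG P hP
  have h6 : 6 ≤ Nat.card (Sylow 5 N) := by
    have hm := card_sylow_modEq_one 5 N
    have hne := card_sylow_ne_one hG 5 h5
    unfold Nat.ModEq at hm
    omega
  have hN10 : 10 ≤ Nat.card (normalizer ((P : Subgroup N) : Set N)) := by
    rw [hcard]
    have hc5 := Nat.le_of_dvd Nat.card_pos hC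
    have he2 : 2 ≤ e := by
      rcases Nat.eq_zero_or_pos e with rfl | h
      · simp at he
      · omega
    exact (Nat.mul_le_mul he2 hc5 : 2 * 5 ≤ _)
  have h60 : 60 ≤ Nat.card N := by
    rw [← card_normalizer_sylow_mul P]
    exact Nat.mul_le_mul hN10 h6
  have h2 := horb x
  simp only [Finset.mem_insert, Finset.mem_singleton] at h2
  rcases h2 with h | h | h | h
  · omega
  · rw [h] at hd2
    left
    have := Nat.le_of_dvd (by norm_num) (show 2 * Nat.card N ∣ 120 from hd2)
    omega
  · rw [h] at hd2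
    by_cases h60' : Nat.card N = 60
    · exact Or.inl h60'
    refine Or.inr ⟨?_, x, h, hfix⟩
    haveI : Nontrivial (MulAction.orbit N x) := Finite.one_lt_card_iff_nontrivial.1 hx
    have hA : 2 * Nat.card (alternatingGroup (MulAction.orbit N x)) = 720 := by
      rw [two_mul_nat_card_alternatingGroup, Nat.card_perm, h]; rfl
    haveI : IsSimpleGroup (alternatingGroup (MulAction.orbit N x)) := alternatingGroup.isSimpleGroup (by omega)
    have hA' : ¬ IsMulCommutative (alternatingGroup (MulAction.orbit N x)) :=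
      not_isMulCommutative_of_not_prime (by rw [show Nat.card (alternatingGroup (MulAction.orbit N x)) = 360 by omega]; norm_num)
    let fA : N →* alternatingGroup (MulAction.orbit N x) :=
      f.codRestrict _ fun n => Perm.mem_alternatingGroup.2 (sign_toPerm hG _ n)
    have hfA : Function.Injective fA := fun a b h => hf (congrArg Subtype.val h)
    have hcr : Nat.card fA.range = Nat.card N := (Nat.card_congr (MonoidHom.ofInjective hfA).toEquiv).symm
    have hcm := fA.range.card_mul_index
    rw [hcr, show Nat.card (alternatingGroup (MulAction.orbit N x)) = 360 by omega] at hcm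
    have htop : fA.range = ⊤ := eq_top_of_not_dvd_factorial hA' fun hdd => by
      have hi : fA.range.index ≤ 5 := by
        have : Nat.card N * fA.range.index = 360 := hcm
        by_contra hh
        have : 6 * Nat.card N ≤ 360 := by rw [← hcm, mul_comm]; exact Nat.mul_le_mul_left _ (by omega)
        omega
      rw [show Nat.card (alternatingGroup (MulAction.orbit N x)) = 360 by omega] at hdd
      have := hdd.trans (Nat.factorial_dvd_factorial hi)
      norm_num [Nat.factorial] at this
    rw [← hcr, htop, Subgroup.card_top]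
    omega
  · exfalso
    refine two_transitive_false hG h5 h7 ⟨fun a b => ?_⟩
    have hu : MulAction.orbit N x = Set.univ := Set.eq_univ_of_forall fun y => by
      by_contra hy
      have hlt : (MulAction.orbit N x).ncard < (Set.univ : Set (Fin 8)).ncard :=
        Set.ncard_lt_ncard ⟨Set.subset_univ _, fun hh => hy (hh (Set.mem_univ y))⟩
      rw [Nat.card_coe_set_eq] at h
      rw [h, Set.ncard_univ, Nat.card_fin] at hlt
      omega
    obtain ⟨g, hg⟩ := (hu ▸ Set.mem_univ a : a ∈ MulAction.orbit N x)
    obtain ⟨g', hg'⟩ := (hu ▸ Set.mem_univ b : b ∈ MulAction.orbit N x)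
    exact ⟨g' * g⁻¹, by rw [← hg, mul_smul, inv_smul_smul]; exact hg'⟩

end Cfsg.Agent.Lib.ASevenGL
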